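import Groth.Agent.GrTwistLib.Ample
import Groth.Agent.GrTildeLib.MulTwist
import Groth.Agent.GrDegLib.Basic
import Groth.Agent.AmpleDevLib.Pull
import Groth.Agent.HilbPolyLib.Twist
import Groth.Agent.DevissLib.Basic
import Groth.Prelude.Def_ProjUP

/-!
# Twisting sheaves of a graded algebra with generators in several degrees
-/

set_option autoImplicit false
set_option linter.style.haveILetI false
universe u
open CategoryTheory CategoryTheory.Limits AlgebraicGeometry TopologicalSpace Opposite TopCat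

noncomputable section

namespace ProjGenLib

variable {R A : Type u} [CommRing R] [CommRing A] [Algebra R A] (𝒜 : ℕ → Submodule R A) [GradedAlgebra 𝒜]

theorem exists_finite_cover [CompactSpace (Proj 𝒜)] {d : ℕ}
    (hcov : (⨆ g : 𝒜 d, Proj.basicOpen 𝒜 (g : A)) = ⊤) :
    ∃ t : Finset A, (∀ f ∈ t, f ∈ 𝒜 d) ∧ ∀ x : Proj 𝒜, ∃ f ∈ t, x ∈ Proj.basicOpen 𝒜 f := by
  classical
  obtain ⟨s, hs⟩ := isCompact_univ.elim_finite_subcover
    (fun g : 𝒜 d => (Proj.basicOpen 𝒜 (g : A) : Set (Proj 𝒜))) (fun g => (Proj.basicOpen 𝒜 (g : A)).2)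
    (fun x _ => by
      have : x ∈ (⨆ g : 𝒜 d, Proj.basicOpen 𝒜 (g : A)) := hcov ▸ trivial
      obtain ⟨g, hg⟩ := Opens.mem_iSup.mp this
      exact Set.mem_iUnion.mpr ⟨g, hg⟩)
  refine ⟨s.image Subtype.val, fun f hf => ?_, fun x => ?_⟩
  · obtain ⟨g, -, rfl⟩ := Finset.mem_image.mp hf
    exact g.2
  · obtain ⟨g, hg, hx⟩ := Set.mem_iUnion₂.mp (hs (Set.mem_univ x))
    exact ⟨g.1, Finset.mem_image.mpr ⟨g, hg, rfl⟩, hx⟩

theorem isAmple_twist [CompactSpace (Proj 𝒜)] {d : ℕ} (hd : 0 < d)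
    (hcov : (⨆ g : 𝒜 d, Proj.basicOpen 𝒜 (g : A)) = ⊤) : CohB1.IsAmple (Twist.twist 𝒜 (d : ℤ)) := by
  obtain ⟨t, ht, hc⟩ := exists_finite_cover 𝒜 hcov
  exact GrTwistLib.twist_isAmple 𝒜 hd t ht hc

/-- Generators in positive degrees: the basic opens of the generators cover. -/
theorem exists_notMem {s : ℕ} (f : Fin s → A) (deg : Fin s → ℕ) (hdeg : ∀ i, 0 < deg i)
    (hf : ∀ i, f i ∈ 𝒜 (deg i)) (hgen : Algebra.adjoin R (Set.range f) = ⊤) (x : Proj 𝒜) :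
    ∃ i, f i ∉ x.asHomogeneousIdeal := by
  have hc := Groth.Agent.GrDegLib.iSup_basicOpen 𝒜 f deg hdeg hf hgen 1 one_pos
  obtain ⟨g, hg⟩ := Opens.mem_iSup.mp (show x ∈ (⨆ g : 𝒜 (1 * Finset.univ.lcm deg), Proj.basicOpen 𝒜 (g : A)) from
    hc ▸ trivial)
  by_contra hcon
  push Not at hcon
  refine hg ?_
  let N : Submodule R A := (x.asHomogeneousIdeal.toIdeal).restrictScalars R
  refine (Groth.Agent.GrDegLib.piece_le 𝒜 f deg hf hgen _ N fun e he => ?_) g.2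
  obtain ⟨j, hj⟩ : ∃ j, e j ≠ 0 := by
    by_contra h
    push Not at h
    have hl : 0 < Finset.univ.lcm deg := Nat.pos_of_ne_zero (Finset.lcm_ne_zero_iff.2 fun i _ => (hdeg i).ne')
    simp [h] at he
    omega
  exact Ideal.mem_of_dvd _ ((dvd_pow_self (f j) hj).trans (Finset.dvd_prod_of_mem _ (Finset.mem_univ j))) (hcon j)

theorem compactSpace {s : ℕ} (f : Fin s → A) (deg : Fin s → ℕ) (hdeg : ∀ i, 0 < deg i)
    (hf : ∀ i, f i ∈ 𝒜 (deg i)) (hgen : Algebra.adjoin R (Set.range f) = ⊤) : CompactSpace (Proj 𝒜) := by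
  refine ⟨?_⟩
  have h : (Set.univ : Set (Proj 𝒜)) = ⋃ i : Fin s, (Proj.basicOpen 𝒜 (f i) : Set (Proj 𝒜)) :=
    (Set.eq_univ_of_forall fun x => Set.mem_iUnion.mpr (exists_notMem 𝒜 f deg hdeg hf hgen x)).symm
  rw [h]
  exact isCompact_iUnion fun i => (Proj.isAffineOpen_basicOpen 𝒜 (f i) (hf i) (hdeg i)).isCompact

open TwistLib

/-- Germs of fractions whose numerators lie in `𝒜 n · 𝒜 J` are combinations of `b / 1`. -/
theorem germ_fracSec_mem {n J : ℕ} {W : (Proj 𝒜).Opens} {x : Proj 𝒜} (hx : x ∈ W) {s : A} (hs : s ∈ 𝒜 J)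
    (hnin : ∀ y : W, s ∉ y.1.asHomogeneousIdeal) {z : A} (hz : z ∈ 𝒜 n * 𝒜 J) :
    ∀ hz' : z ∈ 𝒜 (n + J), (Twist.twist 𝒜 (n : ℤ)).presheaf.germ W x hx
      (fracSec (n := (n : ℤ)) hz' hs (by push_cast; ring) hnin) ∈
      Submodule.span ((Proj 𝒜).presheaf.stalk x) (Set.range fun b : 𝒜 n =>
        ((Twist.twist 𝒜 (n : ℤ)).presheaf.germ ⊤ x trivial).hom
          (Twist.globalOf 𝒜 b : ProjUP.Γm (Twist.twist 𝒜 (n : ℤ)))) := by
  induction hz using Submodule.mul_induction_on' with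
  | mem_mul_mem b hb c hc =>
    intro hz'
    let r : ∀ y : W, HomogeneousLocalization.AtPrime 𝒜 y.1.asHomogeneousIdeal.toIdeal := fun y =>
      HomogeneousLocalization.mk ⟨J, ⟨c, hc⟩, ⟨s, hs⟩, hnin y⟩
    have hr : (ProjectiveSpectrum.StructureSheaf.isLocallyFraction 𝒜).pred r := fun y =>
      ⟨W, y.2, 𝟙 W, J, ⟨c, hc⟩, ⟨s, hs⟩, fun z => hnin z, fun z => rfl⟩
    let c' : Γ(Proj 𝒜, W) := (⟨r, hr⟩ : Twist.O (op W))
    have heq : c' • AmpleLib.res (Twist.twist 𝒜 (n : ℤ)) (le_top : W ≤ ⊤) (Twist.globalOf 𝒜 ⟨b, hb⟩) =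
        fracSec (n := (n : ℤ)) hz' hs (by push_cast; ring) hnin := sec_ext fun y => by
      rw [val_smul, val_fracSec, val_res]
      change (r y).val * Localization.mk b 1 = _
      rw [HomogeneousLocalization.val_mk, Localization.mk_mul, Localization.mk_eq_mk_iff, Localization.r_iff_exists]
      exact ⟨1, by simp [mul_comm]⟩
    rw [← heq]
    have h1 : (Twist.twist 𝒜 (n : ℤ)).presheaf.germ W x hx
        (c' • AmpleLib.res (Twist.twist 𝒜 (n : ℤ)) (le_top : W ≤ ⊤) (Twist.globalOf 𝒜 ⟨b, hb⟩)) =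
      (Proj 𝒜).presheaf.germ W x hx c' • (Twist.twist 𝒜 (n : ℤ)).presheaf.germ ⊤ x trivial (Twist.globalOf 𝒜 ⟨b, hb⟩) := by
      rw [← AmpleLib.germ_res (Twist.twist 𝒜 (n : ℤ)) (le_top : W ≤ ⊤) (Twist.globalOf 𝒜 ⟨b, hb⟩) hx]
      exact DevissLib.gm_smul _ x hx c' _
    rw [h1]
    exact Submodule.smul_mem _ _ (Submodule.subset_span ⟨⟨b, hb⟩, rfl⟩)
  | add z hz w hw ihz ihw =>
    intro hzw
    have hz1 : z ∈ 𝒜 (n + J) := Groth.Agent.GrDegLib.mul_le_piece 𝒜 _ _ hz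
    have hw1 : w ∈ 𝒜 (n + J) := Groth.Agent.GrDegLib.mul_le_piece 𝒜 _ _ hw
    have heq : fracSec (n := (n : ℤ)) hzw hs (by push_cast; ring) hnin =
        fracSec (n := (n : ℤ)) hz1 hs (by push_cast; ring) hnin + fracSec (n := (n : ℤ)) hw1 hs (by push_cast; ring) hnin :=
      sec_ext fun y => by
        rw [GrTildeLib.twistVal_add, val_fracSec, val_fracSec, val_fracSec, Localization.add_mk_self]
    rw [heq, map_add]
    exact add_mem (ihz hz1) (ihw hw1)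

/-- Global generation by the degree `n` part. -/
theorem generatedBy {n : ℕ} (h : ∀ x : Proj 𝒜, ∃ (l : ℕ) (g : A), 0 < l ∧ g ∈ 𝒜 l ∧ g ∉ x.asHomogeneousIdeal ∧
      ∀ k, 𝒜 (n + k * l) ≤ 𝒜 n * 𝒜 (k * l)) :
    ProjUP.GeneratedBy (Twist.twist 𝒜 (n : ℤ))
      (fun b : 𝒜 n => (Twist.globalOf 𝒜 b : ProjUP.Γm (Twist.twist 𝒜 (n : ℤ)))) := by
  intro x
  refine eq_top_iff.mpr fun v _ => ?_
  obtain ⟨l, g, hl, hg, hgx, hpiece⟩ := h x
  obtain ⟨U, hxU, t, rfl⟩ := (Twist.twist 𝒜 (n : ℤ)).presheaf.exists_germ_eq (x := x) v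
  obtain ⟨W, hxW, hWU, i, j, a, s, ha, hs, hnin, hd, hval⟩ := TwistLib.val_exists t ⟨x, hxU⟩
  let W' : (Proj 𝒜).Opens := W ⊓ Proj.basicOpen 𝒜 g
  have hxW' : x ∈ W' := ⟨hxW, hgx⟩
  have hW' : W' ≤ U := inf_le_left.trans hWU
  rw [← AmpleLib.germ_res (Twist.twist 𝒜 (n : ℤ)) hW' t hxW']
  rcases hd with hd | hd
  swap
  · have h0 : AmpleLib.res (Twist.twist 𝒜 (n : ℤ)) hW' t = 0 := sec_ext fun y => by
      rw [val_res, hval ⟨y.1, y.2.1⟩, hd, Localization.mk_zero]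
      rfl
    rw [h0, map_zero]
    exact zero_mem _
  obtain ⟨m, rfl⟩ := Nat.exists_eq_succ_of_ne_zero hl.ne'
  have hs' : s ^ (m + 1) ∈ 𝒜 (j * (m + 1)) := by
    have := SetLike.pow_mem_graded (m + 1) hs
    rwa [smul_eq_mul, mul_comm] at this
  have hz' : a * s ^ m ∈ 𝒜 (n + j * (m + 1)) := by
    have := SetLike.mul_mem_graded ha (SetLike.pow_mem_graded m hs)
    have he : i + m • j = n + j * (m + 1) := by
      simp only [smul_eq_mul]
      have : (i : ℤ) = j + n := hd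
      have h' : i = j + n := by omega
      subst h'
      ring
    rwa [he] at this
  have hnin' : ∀ y : W', s ^ (m + 1) ∉ y.1.asHomogeneousIdeal := fun y hy =>
    hnin ⟨y.1, y.2.1⟩ (y.1.isPrime.mem_of_pow_mem _ hy)
  have heq : AmpleLib.res (Twist.twist 𝒜 (n : ℤ)) hW' t =
      fracSec (n := (n : ℤ)) hz' hs' (by push_cast; ring) hnin' := sec_ext fun y => by
    rw [val_res, hval ⟨y.1, y.2.1⟩, val_fracSec, Localization.mk_eq_mk_iff, Localization.r_iff_exists]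
    exact ⟨1, by simp [pow_succ]; ring⟩
  rw [heq]
  exact germ_fracSec_mem 𝒜 hxW' hs' hnin' (hpiece j hz') hz'

theorem piece_lcm {s : ℕ} (f : Fin s → A) (deg : Fin s → ℕ) (hdeg : ∀ i, 0 < deg i)
    (hf : ∀ i, f i ∈ 𝒜 (deg i)) (hgen : Algebra.adjoin R (Set.range f) = ⊤) {n : ℕ}
    (hn : (s - 1) * (Finset.univ.lcm deg - 1) ≤ n) (k : ℕ) :
    𝒜 (n + k * Finset.univ.lcm deg) ≤ 𝒜 n * 𝒜 (k * Finset.univ.lcm deg) := by
  induction k with
  | zero =>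
    intro z hz
    simp only [zero_mul, add_zero] at hz ⊢
    exact mul_one z ▸ Submodule.mul_mem_mul hz SetLike.GradedOne.one_mem
  | succ k ih =>
    rw [add_one_mul, ← add_assoc, Groth.Agent.GrDegLib.add_lcm 𝒜 f deg hdeg hf hgen _ (hn.trans (Nat.le_add_right _ _))]
    refine (mul_le_mul' ih le_rfl).trans ?_
    rw [mul_assoc]
    exact mul_le_mul' le_rfl (Groth.Agent.GrDegLib.mul_le_piece 𝒜 _ _)

theorem exists_deg_lcm {s : ℕ} (f : Fin s → A) (deg : Fin s → ℕ) (hdeg : ∀ i, 0 < deg i)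
    (hf : ∀ i, f i ∈ 𝒜 (deg i)) (hgen : Algebra.adjoin R (Set.range f) = ⊤) (a : ℕ) (x : Proj 𝒜) :
    ∃ g ∈ 𝒜 (a * Finset.univ.lcm deg), g ∉ x.asHomogeneousIdeal := by
  obtain ⟨i, hi⟩ := exists_notMem 𝒜 f deg hdeg hf hgen x
  have hd : deg i ∣ a * Finset.univ.lcm deg := Dvd.dvd.mul_left (Finset.dvd_lcm (Finset.mem_univ i)) a
  refine ⟨f i ^ (a * Finset.univ.lcm deg / deg i), ?_, fun h => hi (x.isPrime.mem_of_pow_mem _ h)⟩
  have := SetLike.pow_mem_graded (a * Finset.univ.lcm deg / deg i) (hf i)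
  rwa [smul_eq_mul, Nat.div_mul_cancel hd] at this

theorem generatedBy_of_genSec {n : ℕ} (hcov : ∀ x : Proj 𝒜, ∃ g ∈ 𝒜 n, g ∉ x.asHomogeneousIdeal) :
    ProjUP.GeneratedBy (Twist.twist 𝒜 (n : ℤ))
      (fun b : 𝒜 n => (Twist.globalOf 𝒜 b : ProjUP.Γm (Twist.twist 𝒜 (n : ℤ)))) := by
  intro x
  obtain ⟨g, hg, hgx⟩ := hcov x
  let u : Unit' 𝒜 (n : ℤ) (Proj.basicOpen 𝒜 g) :=
    ⟨n, 0, g, 1, hg, SetLike.GradedOne.one_mem, by simp, fun y => y.2,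
      fun y h => y.1.isPrime.ne_top ((Ideal.eq_top_iff_one _).mpr h)⟩
  have hgen : AmpleLib.GenAt (Twist.twist 𝒜 (n : ℤ)) (W := ⊤) (Twist.globalOf 𝒜 ⟨g, hg⟩)
      (show x ∈ (⊤ : (Proj 𝒜).Opens) from trivial) :=
    (genAt_globalOf 𝒜 ⟨g, hg⟩ u hgx).mpr hgx
  refine eq_top_iff.mpr fun v _ => ?_
  obtain ⟨c, rfl⟩ := hgen.2 v
  exact Submodule.smul_mem _ _ (Submodule.subset_span ⟨⟨g, hg⟩, rfl⟩)

/-- Tensor products with an invertible twist. -/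
theorem nonempty_tensor_twist {d : ℕ} (hcov : ∀ x : Proj 𝒜, ∃ g ∈ 𝒜 d, g ∉ x.asHomogeneousIdeal) (a n : ℤ) :
    Nonempty (CohB1.tensorMod (Twist.twist 𝒜 (a * d)) (Twist.twist 𝒜 n) ≅ Twist.twist 𝒜 (a * d + n)) := by
  obtain ⟨e⟩ : Nonempty (CohB1.tensorMod (GrTilde.tilde 𝒜 𝒜 n) (Twist.twist 𝒜 (a * d)) ≅
      GrTilde.tilde 𝒜 𝒜 (a * d + n)) := by
    refine GrTildeLib.exists_tens_iso (fun V => GrTildeLib.mulSec (ℳ := 𝒜) (add_comm n (a * d)))
      (fun V m m' w => GrTildeLib.sec_ext fun x => ?_)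
      (fun V m w w' => GrTildeLib.sec_ext fun x => ?_) (fun V r m w => GrTildeLib.sec_ext fun x => ?_)
      (fun V r m w => GrTildeLib.sec_ext fun x => ?_) (fun V W h m w => rfl) fun x => ?_
    · simp only [GrTildeLib.val_mulSec, GrTildeLib.val_add, smul_add]
    · simp only [GrTildeLib.val_mulSec, GrTildeLib.val_add, GrTildeLib.twistVal_add, add_smul]
    · simp only [GrTildeLib.val_mulSec, GrTildeLib.val_smul]
      exact smul_comm _ _ _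
    · simp only [GrTildeLib.val_mulSec, GrTildeLib.val_smul, TwistLib.val_smul, mul_smul]
    · obtain ⟨g, hg, hgx⟩ := hcov x
      let u : Unit' 𝒜 (a * d) (Proj.basicOpen 𝒜 g) :=
        Unit'.ofPow hg SetLike.GradedOne.one_mem (zero_add d).symm (fun y => y.2)
          (fun y h => y.1.isPrime.ne_top ((Ideal.eq_top_iff_one _).mpr h)) a
      exact ⟨Proj.basicOpen 𝒜 g, hgx, u.sec, u.genOn.genAt hgx,
        fun V hV => GrTildeLib.mulSec_gen_bijective _ u V hV⟩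
  exact ⟨HilbPolyLib.swapIso _ _ ≪≫ PicGrp.tensorModIso (GrTildeLib.twistIsoTilde 𝒜 n) (Iso.refl _) ≪≫ e ≪≫
    (GrTildeLib.twistIsoTilde 𝒜 (a * d + n)).symm⟩

end ProjGenLib

end
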