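import Groth.Agent.MiscFlat6.AmpleTensor
import Groth.Agent.S1611

/-!
# An ample module from globally generated modules with affine loci
-/

set_option autoImplicit false
set_option linter.style.haveILetI false
universe u
open CategoryTheory CategoryTheory.Limits AlgebraicGeometry TopologicalSpace
open AmpleLib AmpleThLib
open TwistLib (genSet)

noncomputable section

namespace ProjGenLib

variable {X : Scheme.{u}}

/-- A module combining finitely many affine loci of globally generated modules. -/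
theorem exists_common {ι : Type*} (L : ι → X.Modules) (hL : ∀ i, PicF.IsInvertible (L i))
    (hg : ∀ i, ∀ x : X, ∃ σ : Γ(L i, ⊤), x ∈ genSet (hL i) σ) (V : ι → X.Opens)
    (hV : ∀ i, ∃ σ : Γ(L i, ⊤), genSet (hL i) σ = V i) (t : Finset ι) :
    ∃ (M : X.Modules) (hM : PicF.IsInvertible M), (∀ x : X, ∃ σ : Γ(M, ⊤), x ∈ genSet hM σ) ∧
      ∀ i ∈ t, ∀ x ∈ V i, ∃ σ : Γ(M, ⊤), x ∈ genSet hM σ ∧ genSet hM σ ≤ V i := by
  classical
  induction t using Finset.induction_on with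
  | empty =>
    refine ⟨Coh.structureModule X, fun x => ⟨⊤, trivial, ⟨Scheme.Modules.restrictUnitIso _⟩⟩,
      fun x => ⟨(1 : Γ(X, ⊤)), ?_⟩, fun i hi => absurd hi (Finset.notMem_empty i)⟩
    exact (one_genOn (⊤ : X.Opens)).genAt trivial
  | insert a t hat ih =>
    obtain ⟨M, hM, hMg, hMV⟩ := ih
    refine ⟨CohB1.tensorMod M (L a), shT_isInvertible hM (hL a), fun x => ?_, fun i hi x hx => ?_⟩
    · obtain ⟨σ, hσ⟩ := hMg x
      obtain ⟨τ, hτ⟩ := hg a x
      exact ⟨shT σ τ, by rw [genSet_shT hM (hL a)]; exact ⟨hσ, hτ⟩⟩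
    · rcases Finset.mem_insert.mp hi with rfl | hi
      · obtain ⟨τ, hτ⟩ := hV i
        obtain ⟨σ, hσ⟩ := hMg x
        exact ⟨shT σ τ, by rw [genSet_shT hM (hL i), hτ]; exact ⟨hσ, hx⟩,
          by rw [genSet_shT hM (hL i), hτ]; exact inf_le_right⟩
      · obtain ⟨σ, hσ, hle⟩ := hMV i hi x hx
        obtain ⟨τ, hτ⟩ := hg a x
        exact ⟨shT σ τ, by rw [genSet_shT hM (hL a)]; exact ⟨hσ, hτ⟩,
          by rw [genSet_shT hM (hL a)]; exact inf_le_left.trans hle⟩

theorem isLocus_one {M : X.Modules} (hM : PicF.IsInvertible M) (σ : Γ(M, ⊤)) :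
    IsLocus hM 1 (genSet hM σ) :=
  ⟨pS σ 1, genSet_pS hM σ one_pos⟩

theorem exists_isAmple [CompactSpace X]
    (h : ∀ x : X, ∃ (L : X.Modules) (s : Coh.structureModule X ⟶ L), PicF.IsInvertible L ∧
      Curv2.IsGloballyGenerated L ∧ x ∈ CohB1.genLocus L s ∧ IsAffineOpen (CohB1.genLocus L s)) :
    ∃ M : X.Modules, CohB1.IsAmple M := by
  classical
  choose L s hL hgg hx haff using h
  have hσ : ∀ x : X, ∃ σ : Γ(L x, ⊤), genSet (hL x) σ = CohB1.genLocus (L x) (s x) := by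
    intro x
    have hex : ∃ σ : Γ(L x, ⊤), QCohLib.unitHom (L x) σ = s x := by
      refine ⟨(s x).app ⊤ (1 : Γ(X, ⊤)), ?_⟩
      refine Scheme.Modules.hom_ext _ _ fun V => ConcreteCategory.hom_ext _ _ fun r0 => ?_
      obtain ⟨r, rfl⟩ : ∃ r : Γ(X, V), (show Γ(Coh.structureModule X, V) from r) = r0 := ⟨r0, rfl⟩
      refine (QCohLib.unitHom_app (L x) _ V r).trans ?_
      rw [← QCohLib.app_map]
      refine (QCohLib.app_smul (s x) V r _).symm.trans (congrArg _ ?_)
      show r * X.presheaf.map _ (1 : Γ(X, ⊤)) = r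
      rw [map_one]
      exact mul_one r
    obtain ⟨σ, hs⟩ := hex
    refine ⟨σ, ?_⟩
    conv_rhs => rw [← hs]
    exact (genLocus_unitHom (hL x) _).symm
  choose σ hσ using hσ
  obtain ⟨t, ht⟩ := isCompact_univ.elim_finite_subcover (fun x : X => (CohB1.genLocus (L x) (s x) : Set X))
    (fun x => (CohB1.genLocus (L x) (s x)).2) (fun x _ => Set.mem_iUnion.mpr ⟨x, hx x⟩)
  haveI : QuasiSeparatedSpace X := by
    refine Scheme.quasiSeparatedSpace_of_isOpenCover (fun x => CohB1.genLocus (L x) (s x))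
      (eq_top_iff.mpr fun x _ => Opens.mem_iSup.mpr ⟨x, hx x⟩) haff fun i j => ?_
    have := MiscFlat6.isCompact_inter_genSet (hL j) (σ j) (haff i)
    rw [hσ] at this
    exact this
  obtain ⟨M, hM, -, hMV⟩ := exists_common L hL
    (fun x y => (Groth.Agent.S1611.exists_genAt_of_gg (hL x) (hgg x) y))
    (fun x => CohB1.genLocus (L x) (s x)) (fun x => ⟨σ x, hσ x⟩) t
  refine ⟨M, MiscFlat6.isAmple_of_quasiAffine_loci hM fun y => ?_⟩
  obtain ⟨i, hi, hyi⟩ := Set.mem_iUnion₂.mp (ht (Set.mem_univ y))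
  obtain ⟨ρ, hρ, hle⟩ := hMV i hi y hyi
  refine ⟨1, genSet hM ρ, one_pos, isLocus_one hM ρ, hρ, ?_⟩
  haveI : IsAffine (CohB1.genLocus (L i) (s i) : Scheme.{u}) := haff i
  refine RichLib.QA.isQuasiAffine_of_le hle ?_ inferInstance
  have hc := MiscFlat6.isCompact_inter_genSet hM ρ (haff i)
  rwa [Set.inter_eq_right.mpr hle] at hc

end ProjGenLib

end
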