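import Groth.Agent.ProjGenLib.Twist
import Groth.Agent.TwistLib.ProjSymExt
import Groth.Agent.MiscFlat6.AmpleTensor

/-!
# Quasi-compact opens of Proj carry ample twists
-/

set_option autoImplicit false
set_option linter.style.haveILetI false
universe u
open CategoryTheory CategoryTheory.Limits AlgebraicGeometry TopologicalSpace Opposite
open KFlatLib (pb puSec)
open TwistLib (genSet Unit')

noncomputable section

namespace ProjGenLib

variable {R A : Type u} [CommRing R] [CommRing A] [Algebra R A] (𝒜 : ℕ → Submodule R A) [GradedAlgebra 𝒜]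

theorem exists_isAmple_pullback {X : Scheme.{u}} [CompactSpace X] (j : X ⟶ Proj 𝒜) [IsOpenImmersion j] :
    ∃ d : ℕ, 0 < d ∧ CohB1.IsAmple ((Scheme.Modules.pullback j).obj (Twist.twist 𝒜 (d : ℤ))) := by
  classical
  have h : ∀ x : X, ∃ (e : ℕ) (g : A), 0 < e ∧ g ∈ 𝒜 e ∧ j x ∈ Proj.basicOpen 𝒜 g ∧
      Proj.basicOpen 𝒜 g ≤ j.opensRange := by
    intro x
    obtain ⟨B, ⟨f, rfl⟩, hxB, hB⟩ := (ProjectiveSpectrum.isTopologicalBasis_basic_opens 𝒜).exists_subset_of_mem_open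
      (show j x ∈ (j.opensRange : Set (Proj 𝒜)) from ⟨x, rfl⟩) j.opensRange.2
    have hcov := (ProjTopLib.iSup_pos_basicOpen 𝒜).ge (show j x ∈ (⊤ : (Proj 𝒜).Opens) from trivial)
    obtain ⟨t, ht⟩ := Opens.mem_iSup.mp hcov
    obtain ⟨i, hi⟩ : ∃ i, GradedAlgebra.proj 𝒜 i f ∉ (j x).asHomogeneousIdeal := by
      by_contra hcon
      push Not at hcon
      refine hxB ?_
      rw [← DirectSum.sum_support_decompose 𝒜 f]
      exact Ideal.sum_mem _ fun i _ => by simpa [GradedAlgebra.proj_apply] using hcon i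
    refine ⟨i + t.1.1, GradedAlgebra.proj 𝒜 i f * t.2.1, by have := t.1.2; omega,
      SetLike.mul_mem_graded (by rw [GradedAlgebra.proj_apply]; exact Subtype.prop _) t.2.2,
      fun hmem => ((j x).isPrime.mem_or_mem hmem).elim hi ht, fun y hy => hB ?_⟩
    intro hf
    refine hy (Ideal.mul_mem_right _ _ ?_)
    rw [GradedAlgebra.proj_apply]
    exact y.asHomogeneousIdeal.isHomogeneous i hf
  choose e g he hg hx hle using h
  obtain ⟨s, hs⟩ := isCompact_univ.elim_finite_subcover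
    (fun x => (j ⁻¹ᵁ Proj.basicOpen 𝒜 (g x) : Set X)) (fun x => (j ⁻¹ᵁ Proj.basicOpen 𝒜 (g x)).2)
    (fun x _ => Set.mem_iUnion.mpr ⟨x, hx x⟩)
  let d := ∏ x ∈ s, e x
  have hd : 0 < d := Finset.prod_pos fun x _ => he x
  have hdvd : ∀ x ∈ s, e x ∣ d := fun x hx => Finset.dvd_prod_of_mem _ hx
  have hG : ∀ y : X, ∃ G ∈ 𝒜 d, j y ∈ Proj.basicOpen 𝒜 G ∧ Proj.basicOpen 𝒜 G ≤ j.opensRange := by
    intro y
    obtain ⟨x, hxs, hy⟩ := Set.mem_iUnion₂.mp (hs (Set.mem_univ y))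
    refine ⟨g x ^ (d / e x), ?_, fun h => hy ((j y).isPrime.mem_of_pow_mem _ h), fun z hz => hle x ?_⟩
    · have := SetLike.pow_mem_graded (d / e x) (hg x)
      rwa [smul_eq_mul, Nat.div_mul_cancel (hdvd x hxs)] at this
    · intro hgz
      have hpos : 0 < d / e x := Nat.div_pos (Nat.le_of_dvd hd (hdvd x hxs)) (he x)
      exact hz (Ideal.pow_mem_of_mem _ hgz _ hpos)
  choose G hGd hGy hGle using hG
  let u : ∀ y : X, Unit' 𝒜 (d : ℤ) (Proj.basicOpen 𝒜 (G y)) := fun y =>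
    ⟨d, 0, G y, 1, hGd y, SetLike.GradedOne.one_mem, by simp, fun z => z.2,
      fun z h => z.1.isPrime.ne_top ((Ideal.eq_top_iff_one _).mpr h)⟩
  let M := Twist.twist 𝒜 (d : ℤ)
  have hinv : PicF.IsInvertible (pb j M) := TwistLib.isInvertible_of_genOn
    (fun y => j ⁻¹ᵁ Proj.basicOpen 𝒜 (G y)) (fun y => ⟨y, hGy y⟩) (fun y => puSec j (u y).sec)
    (fun y => AmpleDevLib.puSec_genOn j (u y).genOn)
  haveI : QuasiSeparatedSpace X := by
    refine Scheme.quasiSeparatedSpace_of_isOpenCover (fun y => j ⁻¹ᵁ Proj.basicOpen 𝒜 (G y))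
      (eq_top_iff.mpr fun y _ => Opens.mem_iSup.mpr ⟨y, hGy y⟩)
      (fun y => (Proj.isAffineOpen_basicOpen 𝒜 _ (hGd y) hd).preimage_of_isOpenImmersion j (hGle y)) fun a b => ?_
    have hpre : j ⁻¹ᵁ Proj.basicOpen 𝒜 (G a) ⊓ j ⁻¹ᵁ Proj.basicOpen 𝒜 (G b) =
        j ⁻¹ᵁ Proj.basicOpen 𝒜 (G a * G b) := by
      rw [Proj.basicOpen_mul]
      rfl
    rw [← Opens.coe_inf, hpre]
    exact ((Proj.isAffineOpen_basicOpen 𝒜 _ (SetLike.mul_mem_graded (hGd a) (hGd b)) (by omega)).preimage_of_isOpenImmersion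
      j (by rw [Proj.basicOpen_mul]; exact inf_le_left.trans (hGle a))).isCompact
  refine ⟨d, hd, MiscFlat6.isAmple_of_quasiAffine_loci hinv fun y => ?_⟩
  let σ : Γ(pb j M, ⊤) := puSec j (show Γ(M, ⊤) from Twist.globalOf 𝒜 ⟨G y, hGd y⟩)
  have hset : genSet hinv σ = j ⁻¹ᵁ Proj.basicOpen 𝒜 (G y) := by
    ext z
    exact (TwistLib.genAt_puSec_iff j (u z).genOn _ (hGy z)).trans
      (TwistLib.genAt_globalOf 𝒜 ⟨G y, hGd y⟩ (u z) (hGy z))
  refine ⟨1, genSet hinv σ, one_pos, ⟨AmpleThLib.pS σ 1, AmpleThLib.genSet_pS hinv σ one_pos⟩,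
    by rw [hset]; exact hGy y, ?_⟩
  rw [hset]
  haveI : IsAffine ((j ⁻¹ᵁ Proj.basicOpen 𝒜 (G y) : X.Opens) : Scheme.{u}) :=
    (Proj.isAffineOpen_basicOpen 𝒜 _ (hGd y) hd).preimage_of_isOpenImmersion j (hGle y)
  infer_instance

end ProjGenLib

end
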